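import Cfsg.Agent.Lib.LocalEven.BenderSplit.Singular.Basic
import Cfsg.Agent.Lib.LocalEven.StrongCore.Automiser

/-!
# A common element of all commutator subgroups of singular elements

The terminal arguments: the singular elements have the same fixed points in one Sylow subgroup
of `F`.
-/

set_option autoImplicit false

namespace CfsgLib.LocalEven.BenderSplit.Singular

open Subgroup
open scoped commutatorElement

variable {X : Type*} [Group X] {F R : Subgroup X}

/-- A nontrivial element of `F` lying in `[F, z]` for every singular `z`. -/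
def Common (F R : Subgroup X) : Prop :=
  ∃ k ∈ F, k ≠ 1 ∧ ∀ z, IsSingular F R z → ∃ f ∈ F, z * f * z⁻¹ * f⁻¹ = k

namespace Data

variable (h : Data F R)

include h

/-- The elements of `q`-power order of `F`. -/
def primary (q : ℕ) : Subgroup X where
  carrier := {f | f ∈ F ∧ ∃ n : ℕ, f ^ q ^ n = 1}
  one_mem' := ⟨one_mem F, 0, one_pow _⟩
  mul_mem' := by
    rintro f g ⟨hf, i, hi⟩ ⟨hg, j, hj⟩
    refine ⟨mul_mem hf hg, i + j, ?_⟩
    rw [(show Commute f g from h.comm f hf g hg).mul_pow, pow_add, pow_mul, hi, one_pow, one_mul,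
      mul_comm, pow_mul, hj, one_pow]
  inv_mem' := by
    rintro f ⟨hf, i, hi⟩
    exact ⟨inv_mem hf, i, by rw [inv_pow, hi, inv_one]⟩

theorem mem_primary {q : ℕ} {f : X} :
    f ∈ h.primary q ↔ f ∈ F ∧ ∃ n : ℕ, f ^ q ^ n = 1 := Iff.rfl

theorem mem_primary_of_torsion {q : ℕ} {f : X} (hf : f ∈ h.torsion q) : f ∈ h.primary q :=
  ⟨hf.1, 1, by rw [pow_one]; exact hf.2⟩

theorem conj_mem_primary {q : ℕ} {z f : X} (hz : z ∈ R) (hf : f ∈ h.primary q) :
    z * f * z⁻¹ ∈ h.primary q := by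
  obtain ⟨hf1, n, hn⟩ := hf
  exact ⟨BenderTransitive.conj_mem_of_mem_normalizer (h.norm hz) hf1, n,
    by rw [conj_pow, hn, mul_one, mul_inv_cancel]⟩

/-- `f ↦ z f z⁻¹ f⁻¹` on the `q`-part. -/
def bracket (q : ℕ) {z : X} (hz : z ∈ R) : h.primary q →* h.primary q where
  toFun f := ⟨z * f * z⁻¹ * (f : X)⁻¹, mul_mem (h.conj_mem_primary hz f.2) (inv_mem f.2)⟩
  map_one' := Subtype.ext (by simp)
  map_mul' f g := Subtype.ext (by
    have hc : ∀ {a b : X}, a ∈ h.primary q → b ∈ h.primary q → a * b = b * a :=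
      fun ha hb => h.comm _ ha.1 _ hb.1
    have hzf := h.conj_mem_primary hz f.2
    have hzg := h.conj_mem_primary hz g.2
    show z * ((f : X) * g) * z⁻¹ * ((f : X) * g)⁻¹ =
      z * f * z⁻¹ * (f : X)⁻¹ * (z * g * z⁻¹ * (g : X)⁻¹)
    calc z * ((f : X) * g) * z⁻¹ * ((f : X) * g)⁻¹
        = z * f * z⁻¹ * ((z * g * z⁻¹ * (g : X)⁻¹) * (f : X)⁻¹) := by group
      _ = z * f * z⁻¹ * ((f : X)⁻¹ * (z * g * z⁻¹ * (g : X)⁻¹)) := by
          rw [hc (mul_mem hzg (inv_mem g.2)) (inv_mem f.2)]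
      _ = _ := by group)

theorem bracket_apply {q : ℕ} {z : X} (hz : z ∈ R) (f : h.primary q) :
    ((h.bracket q hz f : h.primary q) : X) = z * f * z⁻¹ * (f : X)⁻¹ := rfl

theorem mem_ker_bracket {q : ℕ} {z : X} (hz : z ∈ R) (f : h.primary q) :
    f ∈ (h.bracket q hz).ker ↔ z * (f : X) = f * z := by
  rw [MonoidHom.mem_ker, Subtype.ext_iff, h.bracket_apply hz, OneMemClass.coe_one,
    mul_inv_eq_one, mul_inv_eq_iff_eq_mul]

variable [Finite X]

theorem commutator_le_centralizer_of_cyclic {W : Subgroup X} [IsCyclic W]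
    (hW : R ≤ normalizer (W : Set X)) : ⁅R, R⁆ ≤ centralizer (W : Set X) :=
  Subgroup.commutator_le.2 fun a ha b hb => by
    rw [commutatorElement_def]
    exact StrongCore.comm_mem_centralizer (hW ha) (hW hb)

theorem fixedIn_normal {z : X} (hz : R ≤ normalizer (zpowers z : Set X)) :
    R ≤ normalizer (fixedIn F z : Set X) := by
  intro y hy
  refine Coprime.mem_normalizer_of_conj_map_le fun f hf => ?_
  have hf' := mem_fixedIn.1 hf
  refine mem_fixedIn.2 ⟨BenderTransitive.conj_mem_of_mem_normalizer (h.norm hy) hf'.1, ?_⟩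
  obtain ⟨i, hi⟩ := mem_zpowers_iff.1
    (BenderTransitive.conj_inv_mem_of_mem_normalizer (hz hy) (mem_zpowers z))
  have hc : Commute (y⁻¹ * z * y) f := by
    rw [← hi]; exact (show Commute z f from hf'.2).zpow_left i
  calc z * (y * f * y⁻¹) = y * (y⁻¹ * z * y * f) * y⁻¹ := by group
    _ = y * (f * (y⁻¹ * z * y)) * y⁻¹ := by rw [hc.eq]
    _ = _ := by group

/-- All singular elements move the `q`-torsion. -/
theorem common_of_free {q : ℕ} [Fact q.Prime] (hq : q ∣ Nat.card F)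
    (hfix : ∀ z, IsSingular F R z → ∀ f ∈ h.torsion q, z * f = f * z → f = 1) : Common F R := by
  obtain ⟨f, hf, g, hg, hfq, hgq, hf1, -⟩ := h.noncyc q Fact.out hq
  refine ⟨f, hf, hf1, fun z hz => ?_⟩
  have hinj : Function.Injective (h.bracket q hz.mem) := by
    rw [← MonoidHom.ker_eq_bot_iff, Subgroup.eq_bot_iff_forall]
    intro w hw
    by_contra hw1
    rw [h.mem_ker_bracket] at hw
    obtain ⟨hwF, n, hn⟩ := w.2
    obtain ⟨k, -, hk⟩ := (Nat.dvd_prime_pow Fact.out).1 (orderOf_dvd_of_pow_eq_one hn)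
    rcases k with _ | k
    · exact hw1 (Subtype.ext (orderOf_eq_one_iff.1 (by rw [hk, pow_zero])))
    · have ho : orderOf ((w : X) ^ q ^ k) = q := by
        rw [orderOf_pow' _ (pow_ne_zero _ (Nat.Prime.ne_zero Fact.out)), hk,
          Nat.gcd_eq_right (pow_dvd_pow q k.le_succ), pow_succ,
          Nat.mul_div_cancel_left _ (pow_pos (Nat.Prime.pos Fact.out) k)]
      have h1 := hfix z hz ((w : X) ^ q ^ k)
        (h.mem_torsion.2 ⟨pow_mem hwF _, orderOf_dvd_iff_pow_eq_one.1 (by rw [ho])⟩)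
        ((show Commute z (w : X) from hw).pow_right _).eq
      rw [h1, orderOf_one] at ho
      exact (Fact.out : q.Prime).ne_one ho.symm
  obtain ⟨w, hw⟩ := Finite.surjective_of_injective hinj
    ⟨f, h.mem_primary_of_torsion (h.mem_torsion.2 ⟨hf, hfq⟩)⟩
  exact ⟨w, w.2.1, by rw [← h.bracket_apply hz.mem, hw]⟩

/-- All singular elements commute with `z₀` and centralise its fixed points. -/
theorem common_of_central {z₀ : X} (hz₀ : IsSingular F R z₀) {q : ℕ} [Fact q.Prime]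
    (hq : q ∣ Nat.card (fixedIn F z₀)) (hne : q ≠ orderOf z₀)
    (hc : ∀ z, IsSingular F R z →
      Commute z z₀ ∧ ∀ k ∈ fixedIn F z₀, z * k = k * z) : Common F R := by
  classical
  have hqF : q ∣ Nat.card F := hq.trans (card_dvd_of_le inf_le_left)
  set φ₀ := h.bracket q hz₀.mem with hφ₀
  obtain ⟨c', hc'⟩ := exists_prime_orderOf_dvd_card' (G := fixedIn F z₀) q hq
  obtain ⟨hcF, hcz⟩ := mem_fixedIn.1 c'.2
  have hco : orderOf (c' : X) = q := by rw [orderOf_coe, hc']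
  have hcq : (c' : X) ^ q = 1 := orderOf_dvd_iff_pow_eq_one.1 (by rw [hco])
  have hc1 : (c' : X) ≠ 1 := fun e => (Fact.out : q.Prime).ne_one (by rw [← hco, e, orderOf_one])
  set c : h.primary q := ⟨c', h.mem_primary_of_torsion (h.mem_torsion.2 ⟨hcF, hcq⟩)⟩
  -- fixed points and commutators meet trivially
  have hdisj : φ₀.ker ⊓ φ₀.range = ⊥ := by
    refine (Subgroup.eq_bot_iff_forall _).2 ?_
    rintro u ⟨hu, g, rfl⟩
    replace hu : z₀ * ((φ₀ g : h.primary q) : X) = (φ₀ g : h.primary q) * z₀ :=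
      (h.mem_ker_bracket hz₀.mem _).1 hu
    set v : X := ((φ₀ g : h.primary q) : X) with hv
    have hv' : z₀ * (g : X) * z₀⁻¹ = v * g := by
      rw [hv, h.bracket_apply hz₀.mem]; group
    have hvz : Commute z₀ v := hu
    have hiter : ∀ i : ℕ, z₀ ^ i * g * (z₀ ^ i)⁻¹ = v ^ i * g := by
      intro i
      induction i with
      | zero => simp
      | succ i ih =>
        calc z₀ ^ (i + 1) * g * (z₀ ^ (i + 1))⁻¹ = z₀ * (z₀ ^ i * g * (z₀ ^ i)⁻¹) * z₀⁻¹ := by
              rw [pow_succ']; group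
          _ = z₀ * v ^ i * z₀⁻¹ * (z₀ * g * z₀⁻¹) := by rw [ih]; group
          _ = v ^ i * (v * g) := by
              rw [(hvz.pow_right i).eq, mul_inv_cancel_right, hv']
          _ = v ^ (i + 1) * g := by rw [pow_succ]; group
    have hvs : v ^ orderOf z₀ = 1 := by
      have := hiter (orderOf z₀)
      rw [pow_orderOf_eq_one, one_mul, inv_one, mul_one] at this
      exact mul_eq_right.1 this.symm
    obtain ⟨n, hn⟩ := (φ₀ g).2.2
    refine Subtype.ext (orderOf_eq_one_iff.1 (Nat.eq_one_of_dvd_coprimes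
      (((Nat.coprime_primes Fact.out hz₀.prime).2 hne).pow_left n)
      (orderOf_dvd_of_pow_eq_one hn) (orderOf_dvd_of_pow_eq_one hvs)))
  have hcard : Nat.card φ₀.ker * Nat.card φ₀.range = Nat.card (h.primary q) := by
    rw [← index_ker, Subgroup.card_mul_index]
  have hprod : ∀ w : h.primary q, ∃ a ∈ φ₀.ker, ∃ b ∈ φ₀.range, w = a * b := by
    let m : φ₀.ker × φ₀.range → h.primary q := fun p => (p.1 : h.primary q) * p.2
    have hinj : Function.Injective m := fun p p' e => by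
      simp only [m] at e
      have h1 : (p'.1 : h.primary q)⁻¹ * p.1 = (p'.2 : h.primary q) * (p.2 : h.primary q)⁻¹ := by
        rw [eq_mul_inv_iff_mul_eq, mul_assoc, e, inv_mul_cancel_left]
      have h2 : (p'.1 : h.primary q)⁻¹ * p.1 ∈ φ₀.ker ⊓ φ₀.range :=
        Subgroup.mem_inf.2 ⟨φ₀.ker.mul_mem (φ₀.ker.inv_mem p'.1.2) p.1.2,
          h1 ▸ φ₀.range.mul_mem p'.2.2 (φ₀.range.inv_mem p.2.2)⟩
      rw [hdisj, mem_bot] at h2
      refine Prod.ext (Subtype.ext (inv_mul_eq_one.1 h2).symm) (Subtype.ext ?_)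
      rw [h1, mul_inv_eq_one] at h2
      exact h2.symm
    have hsurj := ((Nat.bijective_iff_injective_and_card m).2
      ⟨hinj, by rw [Nat.card_prod]; exact hcard⟩).2
    intro w
    obtain ⟨p, hp⟩ := hsurj w
    exact ⟨p.1, p.1.2, p.2, p.2.2, hp.symm⟩
  have hne_bot : φ₀.range ≠ ⊥ := by
    intro e
    haveI := h.cyc z₀ hz₀.mem hz₀.prime
    refine h.not_torsion_le hqF (W := fixedIn F z₀) fun f hf => mem_fixedIn.2 ⟨hf.1, ?_⟩
    have h1 : φ₀ ⟨f, h.mem_primary_of_torsion hf⟩ ∈ φ₀.range := ⟨_, rfl⟩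
    rw [e, mem_bot] at h1
    exact (h.mem_ker_bracket hz₀.mem _).1 (MonoidHom.mem_ker.2 h1)
  obtain ⟨k, hk, hk1⟩ := (Subgroup.ne_bot_iff_exists_ne_one.1 hne_bot) |>
    fun ⟨k, hk⟩ => (⟨k.1, k.2, fun e => hk (Subtype.ext e)⟩ : ∃ k, k ∈ φ₀.range ∧ k ≠ 1)
  refine ⟨k, k.2.1, fun e => hk1 (Subtype.ext e), fun z hz => ?_⟩
  obtain ⟨hzz, hzfix⟩ := hc z hz
  set φ := h.bracket q hz.mem with hφ
  -- the kernels agree
  have hker : φ.ker = φ₀.ker := by
    refine le_antisymm (fun w hw => ?_) fun w hw => ?_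
    · obtain ⟨a, ha, b, hb, rfl⟩ := hprod w
      have ha' : a ∈ φ.ker := by
        rw [h.mem_ker_bracket] at ha ⊢
        exact hzfix _ (mem_fixedIn.2 ⟨a.2.1, ha⟩)
      have hb' : b ∈ φ.ker := by simpa using mul_mem (inv_mem ha') hw
      refine mul_mem ha ?_
      suffices b = 1 by rw [this]; exact one_mem _
      by_contra hb1
      rw [h.mem_ker_bracket] at hb'
      haveI := h.cyc z hz.mem hz.prime
      obtain ⟨n, hn⟩ := b.2.2
      obtain ⟨j, -, hj⟩ := (Nat.dvd_prime_pow Fact.out).1 (orderOf_dvd_of_pow_eq_one hn)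
      rcases j with _ | j
      · exact hb1 (Subtype.ext (orderOf_eq_one_iff.1 (by rw [hj, pow_zero])))
      have ho : orderOf ((b : X) ^ q ^ j) = q := by
        rw [orderOf_pow' _ (pow_ne_zero _ (Nat.Prime.ne_zero Fact.out)), hj,
          Nat.gcd_eq_right (pow_dvd_pow q j.le_succ), pow_succ,
          Nat.mul_div_cancel_left _ (pow_pos (Nat.Prime.pos Fact.out) j)]
      have hcW : (c' : X) ∈ fixedIn F z := mem_fixedIn.2 ⟨hcF, hzfix _ c'.2⟩
      have hbW : (b : X) ^ q ^ j ∈ fixedIn F z :=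
        mem_fixedIn.2 ⟨pow_mem b.2.1 _, ((show Commute z (b : X) from hb').pow_right _).eq⟩
      obtain ⟨i, hi⟩ := mem_zpowers_iff.1 (mem_zpowers_of_cyclic hcW hcq hc1 hbW
        (orderOf_dvd_iff_pow_eq_one.1 (by rw [ho])))
      have hker' : (b ^ q ^ j : h.primary q) ∈ φ₀.ker := by
        rw [h.mem_ker_bracket, SubmonoidClass.coe_pow, ← hi]
        exact ((show Commute z₀ (c' : X) from hcz).zpow_right i).eq
      have h3 : (b ^ q ^ j : h.primary q) ∈ φ₀.ker ⊓ φ₀.range := ⟨hker', pow_mem hb _⟩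
      rw [hdisj, mem_bot] at h3
      have h4 := congrArg Subtype.val h3
      rw [SubmonoidClass.coe_pow, OneMemClass.coe_one] at h4
      rw [h4, orderOf_one] at ho
      exact (Fact.out : q.Prime).ne_one ho.symm
    · rw [h.mem_ker_bracket] at hw ⊢
      exact hzfix _ (mem_fixedIn.2 ⟨w.2.1, hw⟩)
  -- the ranges agree
  have hle : φ.range ≤ φ₀.range := by
    rintro _ ⟨w, rfl⟩
    obtain ⟨a, ha, b, ⟨g, rfl⟩, rfl⟩ := hprod w
    rw [map_mul, MonoidHom.mem_ker.1 (hker ▸ ha : a ∈ φ.ker), one_mul]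
    refine ⟨φ g, Subtype.ext ?_⟩
    have hzf : ∀ f : X, z₀ * (z * f * z⁻¹) * z₀⁻¹ = z * (z₀ * f * z₀⁻¹) * z⁻¹ := fun f => by
      calc z₀ * (z * f * z⁻¹) * z₀⁻¹ = z₀ * z * f * (z₀ * z)⁻¹ := by group
        _ = z * z₀ * f * (z * z₀)⁻¹ := by rw [hzz.eq]
        _ = _ := by group
    rw [h.bracket_apply hz₀.mem, h.bracket_apply hz.mem, h.bracket_apply hz.mem,
      h.bracket_apply hz₀.mem]
    have e1 : z₀ * (z * (g : X) * z⁻¹ * (g : X)⁻¹) * z₀⁻¹ =
        z * (z₀ * g * z₀⁻¹) * z⁻¹ * (z₀ * g * z₀⁻¹)⁻¹ := by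
      rw [← hzf]; group
    have e2 : z * (z₀ * (g : X) * z₀⁻¹ * (g : X)⁻¹) * z⁻¹ =
        z * (z₀ * g * z₀⁻¹) * z⁻¹ * (z * g * z⁻¹)⁻¹ := by group
    rw [e1, e2]
    have hA := h.conj_mem_primary hz₀.mem g.2
    have hB := h.conj_mem_primary hz.mem g.2
    have hcm : ∀ {a b : X}, a ∈ h.primary q → b ∈ h.primary q → a * b = b * a :=
      fun ha hb => h.comm _ ha.1 _ hb.1
    set A := z₀ * (g : X) * z₀⁻¹
    set B := z * (g : X) * z⁻¹
    calc z * A * z⁻¹ * A⁻¹ * (B * (g : X)⁻¹)⁻¹ = z * A * z⁻¹ * (A⁻¹ * ((g : X) * B⁻¹)) := by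
          group
      _ = z * A * z⁻¹ * ((g : X) * B⁻¹ * A⁻¹) := by
          rw [hcm (inv_mem hA) (mul_mem g.2 (inv_mem hB))]
      _ = z * A * z⁻¹ * (B⁻¹ * (g : X) * A⁻¹) := by rw [hcm g.2 (inv_mem hB)]
      _ = z * A * z⁻¹ * B⁻¹ * (A * (g : X)⁻¹)⁻¹ := by group
  have heq : φ.range = φ₀.range := by
    refine eq_of_le_of_card_ge hle (le_of_eq ?_)
    rw [← index_ker, ← index_ker, hker]
  obtain ⟨w, hw⟩ := (heq ▸ hk : k ∈ φ.range)
  exact ⟨w, w.2.1, by rw [← h.bracket_apply hz.mem, hw]⟩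

end Data

end CfsgLib.LocalEven.BenderSplit.Singular
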