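import Cfsg.Agent.Lib.LocalEven.BenderSplit.Singular.Kernel
import Cfsg.Agent.Lib.Solvable.FrattiniFitting
import Cfsg.Agent.Lib.Fusion.NormalRankTwo

/-!
# The singular elements have a common commutator

Some nontrivial element of `F` lies in `[F, z]` for every singular `z`.
-/

set_option autoImplicit false

namespace CfsgLib.LocalEven.BenderSplit.Singular

open Subgroup
open scoped commutatorElement

variable {X : Type*} [Group X] {F R : Subgroup X}

theorem IsSingular.fixed_ne {z : X} (hz : IsSingular F R z) {x : X} (hx : IsFree F R x) :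
    z ∉ zpowers x := by
  intro hzx
  obtain ⟨i, hi⟩ := mem_zpowers_iff.1 hzx
  refine hz.fix ((Subgroup.eq_bot_iff_forall _).2 fun f hf => ?_)
  have h1 : x ∈ zpowers z := by
    haveI := Fact.mk hx.prime
    have hz1 : z ≠ 1 := fun e => hz.prime.ne_one (by rw [e, orderOf_one])
    have hz' : (⟨z, hzx⟩ : zpowers x) ≠ 1 := fun e => hz1 (congrArg Subtype.val e)
    obtain ⟨j, hj⟩ := mem_zpowers_iff.1 (mem_zpowers_of_prime_card (Nat.card_zpowers x) hz'
      (g' := (⟨x, mem_zpowers x⟩ : zpowers x)))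
    exact mem_zpowers_iff.2 ⟨j, congrArg Subtype.val hj⟩
  obtain ⟨j, hj⟩ := mem_zpowers_iff.1 h1
  obtain ⟨hfF, hfz⟩ := mem_fixedIn.1 hf
  have h2 : f ∈ fixedIn F x := mem_fixedIn.2 ⟨hfF, by
    rw [← hj]; exact ((show Commute z f from hfz).zpow_left j).eq⟩
  rw [hx.fix, mem_bot] at h2
  exact h2

namespace Data

variable [Finite X] (h : Data F R)

include h

/-- A power of `c` centralises the fixed points of a singular `z` commuting with a free element. -/
theorem pow_fixes {z x c : X} (hz : IsSingular F R z) (hx : IsFree F R x) (hxz : Commute x z)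
    (hc : c ∈ R) (hcz : Commute c z) :
    ∀ k ∈ fixedIn F z, c ^ orderOf x * k = k * c ^ orderOf x := by
  intro k hk
  obtain ⟨i, hi⟩ := h.powers z hz c hc hcz
  have hiter : ∀ n : ℕ, c ^ n * k * (c ^ n)⁻¹ = k ^ 2 ^ (i * n) := by
    intro n
    induction n with
    | zero => simp
    | succ n ih =>
      calc c ^ (n + 1) * k * (c ^ (n + 1))⁻¹ = c * (c ^ n * k * (c ^ n)⁻¹) * c⁻¹ := by
            rw [pow_succ']; group
        _ = (c * k * c⁻¹) ^ 2 ^ (i * n) := by rw [ih, conj_pow]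
        _ = k ^ 2 ^ (i * (n + 1)) := by
            rw [hi k hk, ← pow_mul, ← pow_add]; congr 2; ring
  have hM := h.card_of_free z hz x hx hxz
  have hdvd : orderOf k ∣ 2 ^ (i * orderOf x) - 1 := by
    refine (dvd_trans ?_ (Nat.pow_sub_one_dvd_pow_sub_one 2 (dvd_mul_left (orderOf x) i)))
    rw [← hM]
    exact Subgroup.orderOf_dvd_natCard _ hk
  have hfix : k ^ 2 ^ (i * orderOf x) = k := by
    rw [show 2 ^ (i * orderOf x) = (2 ^ (i * orderOf x) - 1) + 1 by
        rw [Nat.sub_add_cancel (Nat.one_le_two_pow)],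
      pow_succ, orderOf_dvd_iff_pow_eq_one.1 hdvd, one_mul]
  exact mul_inv_eq_iff_eq_mul.1 ((hiter _).trans hfix)

/-- An element of prime order coprime to that of `x` centralises such fixed points. -/
theorem fixes_of_coprime {z x c : X} (hz : IsSingular F R z) (hx : IsFree F R x)
    (hxz : Commute x z) (hc : c ∈ R) (hcz : Commute c z)
    (hcop : (orderOf x).Coprime (orderOf c)) :
    ∀ k ∈ fixedIn F z, c * k = k * c := by
  intro k hk
  obtain ⟨j, hj⟩ := exists_pow_eq_self_of_coprime hcop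
  rw [← hj]
  exact ((show Commute _ k from h.pow_fixes hz hx hxz hc hcz k hk).pow_left j).eq

/-- No elementary subgroup of order `s²` commutes with a free element of order prime to `s`. -/
theorem false_of_elementary {x : X} (hx : IsFree F R x) {s : ℕ} [hs : Fact s.Prime]
    (hsl : s ≠ orderOf x) {A : Subgroup X} [IsMulCommutative A] (hA : A ≤ R)
    (hAnc : ¬ IsCyclic A) (hexp : ∀ a ∈ A, a ^ s = 1) (hxA : ∀ a ∈ A, Commute x a) : False := by
  obtain ⟨q, hqp, hqs, hqd⟩ := h.other s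
  haveI := Fact.mk hqp
  obtain ⟨n, hn⟩ := IsPGroup.exists_card_eq (p := s) (G := A) fun a =>
    ⟨1, Subtype.ext (by rw [pow_one]; exact hexp a a.2)⟩
  have hcop := h.coprime_torsion hs.out hqs hn
  have hsing : ∀ y ∈ A, y ≠ 1 → ∀ f ∈ h.torsion q, y * f = f * y → f ≠ 1 →
      IsSingular F R y := fun y hy hy1 f hf hyf hf1 =>
    ⟨hA hy, (orderOf_eq_prime (hexp y hy) hy1).symm ▸ hs.out, fun e => hf1 (by
      have h1 : f ∈ fixedIn F y := mem_fixedIn.2 ⟨hf.1, hyf⟩
      rw [e, mem_bot] at h1; exact h1)⟩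
  obtain ⟨y₀, hy₀, hy₀1, f₀, hf₀, hyf₀, hf₀1⟩ := h.exists_fixed hqd hA hAnc hcop
  haveI := h.cyc y₀ (hA hy₀) ((orderOf_eq_prime (hexp y₀ hy₀) hy₀1).symm ▸ hs.out)
  obtain ⟨y, hy, hy1, f, hf, hyf, hfW⟩ :=
    h.exists_fixed_not_mem hqd (W := fixedIn F y₀) hA hAnc hcop
  refine hfW (mem_fixedIn.2 ⟨hf.1, ?_⟩)
  refine h.fixes_of_coprime (hsing y hy hy1 f hf hyf fun e => hfW (e ▸ one_mem _)) hx
    (hxA y hy) (hA hy₀) ?_ ?_ f (mem_fixedIn.2 ⟨hf.1, hyf⟩)
  · exact congrArg Subtype.val (mul_comm' (⟨y₀, hy₀⟩ : A) ⟨y, hy⟩)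
  · rw [orderOf_eq_prime (hexp y₀ hy₀) hy₀1]
    exact (Nat.coprime_primes hx.prime hs.out).2 (Ne.symm hsl)

/-- A singular element whose order differs from that of a free one. -/
theorem common_of_two_primes {x z₀ : X} (hx : IsFree F R x) (hz₀ : IsSingular F R z₀)
    (hne : orderOf z₀ ≠ orderOf x) : Common F R := by
  classical
  set s := orderOf z₀ with hs
  set l := orderOf x with hl
  haveI := Fact.mk hz₀.prime
  haveI := Fact.mk hx.prime
  haveI : Group.IsSolvable R := OddOrder.Final.oddSolvable R h.oddR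
  have hs2 : s ≠ 2 := fun e => by
    have := h.oddR.of_dvd_nat (Subgroup.orderOf_dvd_natCard _ hz₀.mem)
    rw [← hs, e] at this
    exact Nat.not_odd_iff_even.2 even_two this
  have hcomm : ∀ z, IsSingular F R z → orderOf z ≠ l → Commute x z := fun z hz hzl => by
    haveI := Fact.mk hz.prime
    exact h.free_commute_core hx hzl (h.mem_core hz)
  -- the `s`-core is cyclic
  set P := Cfsg.pCore s R with hP
  have hPp : IsPGroup s P := Solvable.Cores.isPGroup_pCore s
  have hPcyc : IsCyclic P := by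
    by_contra hnc
    obtain ⟨E, -, -, hE, hEc⟩ := Fusion.NormalRankTwo.exists_normal_rankTwo hPp hs2
      (S := (⊤ : Subgroup P)) fun hcyc =>
        hnc (isCyclic_of_surjective Subgroup.topEquiv.toMonoidHom Subgroup.topEquiv.surjective)
    set A := (E.map P.subtype).map R.subtype with hA
    haveI : IsMulCommutative A := IsMulCommutative.of_comm <| by
      rintro ⟨_, _, ⟨a, ha, rfl⟩, rfl⟩ ⟨_, _, ⟨b, hb, rfl⟩, rfl⟩
      haveI := hE.1
      have h1 : a * b = b * a := congrArg Subtype.val (mul_comm' (⟨a, ha⟩ : E) ⟨b, hb⟩)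
      exact Subtype.ext (by
        simp only [Subgroup.coe_mul, ← map_mul, h1])
    have hAexp : ∀ a ∈ A, a ^ s = 1 := by
      rintro _ ⟨_, ⟨a, ha, rfl⟩, rfl⟩
      rw [← map_pow, ← map_pow, hE.2 a ha, map_one, map_one]
    refine h.false_of_elementary hx (A := A) (s := s) hne (map_subtype_le _) (fun hcyc => ?_)
      hAexp fun a ha => ?_
    · haveI := hcyc
      obtain ⟨g, hg⟩ := IsCyclic.exists_generator (α := A)
      have h1 : Nat.card A = s ^ 2 := by
        rw [hA, Coprime.card_map_subtype, Coprime.card_map_subtype, hEc]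
      have h2 : orderOf g ∣ s := orderOf_dvd_of_pow_eq_one (Subtype.ext (hAexp g g.2))
      rw [orderOf_eq_card_of_forall_mem_zpowers hg, h1] at h2
      have h3 := Nat.le_of_dvd hz₀.prime.pos h2
      nlinarith [hz₀.prime.one_lt]
    · refine h.free_commute_core hx hne ?_
      obtain ⟨b, ⟨c, -, rfl⟩, rfl⟩ := ha
      exact ⟨_, c.2, rfl⟩
  set S₀ := P.map R.subtype with hS₀
  haveI : IsCyclic S₀ := isCyclic_of_surjective
    (Subgroup.equivMapOfInjective P R.subtype R.subtype_injective).toMonoidHom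
    (MulEquiv.surjective _)
  have hz₀P : z₀ ∈ S₀ := h.mem_core hz₀
  have hz₀s : z₀ ^ s = 1 := pow_orderOf_eq_one z₀
  have hz₀1 : z₀ ≠ 1 := fun e => hz₀.prime.ne_one (by rw [e, orderOf_one])
  -- `⟨z₀⟩` is normal
  have hnorm : R ≤ normalizer (zpowers z₀ : Set X) := by
    intro y hy
    refine Coprime.mem_normalizer_of_conj_map_le fun f hf => ?_
    have hS₀n : y ∈ normalizer (S₀ : Set X) := by
      haveI : (Cfsg.pCore s R).Characteristic := inferInstance
      exact Coprime.FixedPointFreeOnModule.mem_normalizer_map_of_char _ (le_normalizer hy)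
    obtain ⟨i, rfl⟩ := mem_zpowers_iff.1 hf
    refine mem_zpowers_of_cyclic hz₀P hz₀s hz₀1
      (BenderTransitive.conj_mem_of_mem_normalizer hS₀n (zpow_mem hz₀P i)) ?_
    rw [conj_pow, ← zpow_natCast, ← zpow_mul, mul_comm i, zpow_mul, zpow_natCast, hz₀s, one_zpow,
      mul_one, mul_inv_cancel]
  haveI := h.cyc z₀ hz₀.mem hz₀.prime
  have hz₀R : ∀ z, IsSingular F R z → Commute z z₀ ∧ ∀ k ∈ fixedIn F z₀, z * k = k * z := by
    intro z hz
    have hz' := h.singular_mem z hz
    refine ⟨?_, fun k hk => ?_⟩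
    · exact (mem_centralizer_iff.1 (h.commutator_le_centralizer_of_cyclic hnorm hz') z₀
        (mem_zpowers z₀)).symm
    · exact (mem_centralizer_iff.1
        (h.commutator_le_centralizer_of_cyclic (h.fixedIn_normal hnorm) hz') k hk).symm
  have hM : Nat.card (fixedIn F z₀) = 2 ^ l - 1 :=
    h.card_of_free z₀ hz₀ x hx (hcomm z₀ hz₀ hne)
  by_cases hq : ∃ q, q.Prime ∧ q ≠ s ∧ q ∣ Nat.card (fixedIn F z₀)
  · obtain ⟨q, hqp, hqs, hqd⟩ := hq
    haveI := Fact.mk hqp
    exact h.common_of_central hz₀ hqd hqs hz₀R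
  push Not at hq
  obtain ⟨q, hqp, hqs, hqd⟩ := h.other s
  haveI := Fact.mk hqp
  refine h.common_of_free hqd fun z hz f hf hzf => ?_
  by_contra hf1
  have hle : fixedIn F z₀ ≤ fixedIn F z := fun k hk =>
    mem_fixedIn.2 ⟨(mem_fixedIn.1 hk).1, (hz₀R z hz).2 k hk⟩
  suffices heq : fixedIn F z = fixedIn F z₀ by
    have h1 : f ∈ fixedIn F z₀ := heq ▸ mem_fixedIn.2 ⟨hf.1, hzf⟩
    exact hq q hqp hqs ((orderOf_eq_prime hf.2 hf1) ▸ Subgroup.orderOf_dvd_natCard _ h1)
  by_cases hzs : orderOf z = s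
  · have hzS : z ∈ S₀ := by
      have := h.mem_core hz; rwa [hzs] at this
    obtain ⟨i, hi⟩ := mem_zpowers_iff.1 (mem_zpowers_of_cyclic hzS (hzs ▸ pow_orderOf_eq_one z)
      (fun e => hz.prime.ne_one (by rw [e, orderOf_one])) hz₀P hz₀s)
    refine le_antisymm (fun k hk => mem_fixedIn.2 ⟨(mem_fixedIn.1 hk).1, ?_⟩) hle
    rw [← hi]
    exact ((show Commute z k from (mem_fixedIn.1 hk).2).zpow_left i).eq
  have hclose : ∀ w, IsSingular F R w → fixedIn F z₀ ≤ fixedIn F w → IsFree F R x →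
      ∀ x', IsFree F R x' → orderOf x' = l → Commute x' w → fixedIn F w = fixedIn F z₀ := by
    intro w hw hle' _ x' hx' ho hc
    refine (eq_of_le_of_card_ge hle' (le_of_eq ?_)).symm
    rw [hM, h.card_of_free w hw x' hx' hc, ho]
  by_cases hzl : orderOf z = l
  swap
  · exact hclose z hz hle hx x hx rfl (hcomm z hz hzl)
  -- `z` has order `l`
  set T := Cfsg.pCore l R with hT
  have hzT : z ∈ T.map R.subtype := by
    have := h.mem_core hz; rwa [hzl] at this
  have hTp : IsPGroup l T := Solvable.Cores.isPGroup_pCore l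
  obtain ⟨z', hz'T, hz'⟩ := hzT
  have hT1 : T ≠ ⊥ := fun e => by
    rw [SetLike.mem_coe, e, mem_bot] at hz'T
    rw [hz'T, map_one] at hz'
    exact hz.prime.ne_one (by rw [← hz', orderOf_one])
  set x' : R := ⟨x, hx.mem⟩
  set Y := T ⊔ zpowers x' with hY
  have hYp : IsPGroup l Y := IsPGroup.to_sup_of_normal_left hTp
    (IsPGroup.of_card (n := 1) (by rw [Nat.card_zpowers, pow_one, Subgroup.orderOf_mk]))
  haveI : Group.IsNilpotent Y := hYp.isNilpotent
  haveI : (T.subgroupOf Y).Normal := inferInstance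
  have hTY : T.subgroupOf Y ≠ ⊥ := fun e => hT1 (by
    rw [subgroupOf_eq_bot, disjoint_iff, inf_eq_left.2 le_sup_left] at e; exact e)
  have hmeet := Solvable.FrattiniFitting.inf_center_ne_bot (T.subgroupOf Y) hTY
  obtain ⟨⟨c₀, hc₀⟩, hc₀1⟩ := (Subgroup.ne_bot_iff_exists_ne_one.1 hmeet)
  obtain ⟨hc₀T, hc₀Z⟩ := Subgroup.mem_inf.1 hc₀
  have hYpow : ∃ k, orderOf c₀ = l ^ (k + 1) := by
    obtain ⟨k, hk⟩ := IsPGroup.iff_orderOf.1 hYp c₀
    rcases k with _ | k
    · exact absurd (Subtype.ext (orderOf_eq_one_iff.1 (by rw [hk, pow_zero]))) hc₀1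
    · exact ⟨k, hk⟩
  obtain ⟨k, hk⟩ := hYpow
  set c₁ := c₀ ^ l ^ k with hc₁
  have hc₁o : orderOf c₁ = l := by
    rw [hc₁, orderOf_pow' _ (pow_ne_zero _ hx.prime.ne_zero), hk,
      Nat.gcd_eq_right (pow_dvd_pow l k.le_succ), pow_succ,
      Nat.mul_div_cancel_left _ (pow_pos hx.prime.pos k)]
  set c : X := (((c₁ : Y) : R) : X) with hc
  have hco : orderOf c = l := by rw [hc, Subgroup.orderOf_coe, Subgroup.orderOf_coe, hc₁o]
  have hcR : c ∈ R := ((c₁ : Y) : R).2
  have hcen : ∀ y : Y, c₁ * y = y * c₁ := fun y =>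
    ((Subgroup.mem_center_iff.1 (pow_mem hc₀Z (l ^ k))) y).symm
  have hcx : Commute x c := by
    have h1 := hcen ⟨x', mem_sup_right (mem_zpowers x')⟩
    exact (congrArg (fun y : Y => ((y : R) : X)) h1).symm
  have hcz : Commute c z := by
    have h1 := hcen ⟨z', mem_sup_left hz'T⟩
    have h2 := congrArg (fun y : Y => ((y : R) : X)) h1
    rw [← hz']
    exact h2
  rcases free_or_singular hcR (hco ▸ hx.prime) with hcf | hcs
  · exact hclose z hz hle hx c hcf hco hcz
  have hce : fixedIn F c = fixedIn F z₀ := hclose c hcs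
    (fun k hk => mem_fixedIn.2 ⟨(mem_fixedIn.1 hk).1, (hz₀R c hcs).2 k hk⟩) hx x hx rfl hcx
  -- the field degree
  haveI := h.cyc z hz.mem hz.prime
  obtain ⟨a, ha⟩ := h.card_fixed z hz
  have hkey : ∀ w ∈ R, (orderOf w).Prime → Commute w z → fixedIn F w = fixedIn F z₀ →
      ∃ a', a = l * a' ∧ a' ∣ orderOf w := by
    intro w hw hwp hwz hwe
    obtain ⟨i, hi⟩ := h.powers z hz w hw hwz
    letI : CommGroup (fixedIn F z) :=
      { (inferInstance : Group (fixedIn F z)) with
        mul_comm := fun u v => Subtype.ext (h.comm _ u.2.1 _ v.2.1) }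
    have hker : (powMonoidHom (2 ^ i - 1) : fixedIn F z →* fixedIn F z).ker =
        (fixedIn F z₀).subgroupOf (fixedIn F z) := by
      ext u
      have h1 : (u : X) ^ 2 ^ i = (u : X) ^ (2 ^ i - 1) * u := by
        rw [← pow_succ, Nat.sub_add_cancel Nat.one_le_two_pow]
      rw [MonoidHom.mem_ker, powMonoidHom_apply, mem_subgroupOf, ← hwe, Subtype.ext_iff,
        SubmonoidClass.coe_pow, OneMemClass.coe_one]
      constructor
      · intro e
        refine mem_fixedIn.2 ⟨u.2.1, mul_inv_eq_iff_eq_mul.1 ?_⟩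
        rw [hi u u.2, h1, e, one_mul]
      · intro e
        have := hi u u.2
        rw [mul_inv_eq_iff_eq_mul.2 (mem_fixedIn.1 e).2, h1] at this
        exact right_eq_mul.1 this
    have hcard := IsCyclic.card_powMonoidHom_ker (G := fixedIn F z) (2 ^ i - 1)
    rw [hker, Nat.card_congr (subgroupOfEquivOfLe hle).toEquiv, hM, ha,
      Nat.pow_sub_one_gcd_pow_sub_one] at hcard
    have hgcd : l = Nat.gcd a i := by
      refine Nat.pow_right_injective le_rfl (?_ : 2 ^ l = 2 ^ Nat.gcd a i)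
      have h2 : 1 ≤ 2 ^ l := Nat.one_le_two_pow
      have h3 : 1 ≤ 2 ^ Nat.gcd a i := Nat.one_le_two_pow
      omega
    have hiter : ∀ (n : ℕ), ∀ u ∈ fixedIn F z, w ^ n * u * (w ^ n)⁻¹ = u ^ 2 ^ (i * n) := by
      intro n
      induction n with
      | zero => intro u _; simp
      | succ n ih =>
        intro u hu
        calc w ^ (n + 1) * u * (w ^ (n + 1))⁻¹ = w * (w ^ n * u * (w ^ n)⁻¹) * w⁻¹ := by
              rw [pow_succ']; group
          _ = (w * u * w⁻¹) ^ 2 ^ (i * n) := by rw [ih u hu, conj_pow]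
          _ = u ^ 2 ^ (i * (n + 1)) := by
              rw [hi u hu, ← pow_mul, ← pow_add]; congr 2; ring
    obtain ⟨g, hg⟩ := IsCyclic.exists_generator (α := fixedIn F z)
    have hdvd : 2 ^ a - 1 ∣ 2 ^ (i * orderOf w) - 1 := by
      rw [← ha, ← orderOf_eq_card_of_forall_mem_zpowers hg, ← Subgroup.orderOf_coe g]
      have h2 := hiter (orderOf w) g g.2
      rw [pow_orderOf_eq_one, one_mul, inv_one, mul_one,
        show 2 ^ (i * orderOf w) = (2 ^ (i * orderOf w) - 1) + 1 by
          rw [Nat.sub_add_cancel Nat.one_le_two_pow], pow_succ] at h2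
      exact orderOf_dvd_of_pow_eq_one (right_eq_mul.1 h2)
    have hadvd : a ∣ i * orderOf w := by
      have h2 := Nat.gcd_eq_left hdvd
      rw [Nat.pow_sub_one_gcd_pow_sub_one] at h2
      have h3 : 2 ^ Nat.gcd a (i * orderOf w) = 2 ^ a := by
        have e1 : 1 ≤ 2 ^ a := Nat.one_le_two_pow
        have e2 : 1 ≤ 2 ^ Nat.gcd a (i * orderOf w) := Nat.one_le_two_pow
        omega
      exact (Nat.pow_right_injective le_rfl h3) ▸ Nat.gcd_dvd_right _ _
    obtain ⟨a', ha'⟩ : l ∣ a := hgcd ▸ Nat.gcd_dvd_left a i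
    obtain ⟨i', hi'⟩ : l ∣ i := hgcd ▸ Nat.gcd_dvd_right a i
    refine ⟨a', ha', ?_⟩
    have hcop : a'.Coprime i' := by
      rw [ha', hi', Nat.gcd_mul_left] at hgcd
      exact (Nat.eq_of_mul_eq_mul_left hx.prime.pos (by rw [mul_one]; exact hgcd)).symm
    rw [ha', hi', mul_assoc] at hadvd
    exact hcop.dvd_of_dvd_mul_left (Nat.dvd_of_mul_dvd_mul_left hx.prime.pos hadvd)
  obtain ⟨a', ha', hac⟩ := hkey c hcR hcs.prime hcz hce
  obtain ⟨a'', ha'', haz⟩ := hkey z₀ hz₀.mem hz₀.prime (hz₀R z hz).1.symm rfl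
  have he : a' = a'' := Nat.eq_of_mul_eq_mul_left hx.prime.pos (ha'.symm.trans ha'')
  have h1 : a' = 1 := Nat.eq_one_of_dvd_coprimes ((Nat.coprime_primes hx.prime hz₀.prime).2
    (Ne.symm hne)) (by rw [hco] at hac; exact hac) (he ▸ haz)
  refine (eq_of_le_of_card_ge hle (le_of_eq ?_)).symm
  rw [hM, ha, ha', h1, mul_one]

/-- Free and singular elements have one and the same prime order. -/
theorem common_of_one_prime {x₀ z₀ : X} (hx₀ : IsFree F R x₀) (hz₀ : IsSingular F R z₀)
    (hall : ∀ x z, IsFree F R x → IsSingular F R z → orderOf z = orderOf x) : Common F R := by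
  classical
  set l := orderOf x₀ with hl
  haveI := Fact.mk hx₀.prime
  have hl2 : l ≠ 2 := fun e => by
    have := h.oddR.of_dvd_nat (Subgroup.orderOf_dvd_natCard _ hx₀.mem)
    rw [← hl, e] at this
    exact Nat.not_odd_iff_even.2 even_two this
  have hord : ∀ y ∈ R, (orderOf y).Prime → orderOf y = l := fun y hy hp => by
    rcases free_or_singular hy hp with hf | hs
    · exact (hall y z₀ hf hz₀).symm.trans (hall x₀ z₀ hx₀ hz₀)
    · exact hall x₀ y hx₀ hs
  have hRp : IsPGroup l R := IsPGroup.of_card (n := (Nat.card R).primeFactorsList.length)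
    (Nat.eq_prime_pow_of_unique_prime_dvd Nat.card_pos.ne' fun {d} hd hdd => by
      haveI := Fact.mk hd
      obtain ⟨y, hy⟩ := exists_prime_orderOf_dvd_card' (G := R) d hdd
      have := hord y y.2 (by rw [Subgroup.orderOf_coe, hy]; exact hd)
      rw [Subgroup.orderOf_coe, hy] at this
      exact this)
  haveI : Group.IsNilpotent R := hRp.isNilpotent
  by_cases hcs : ∃ z, IsSingular F R z ∧ ∀ y ∈ R, Commute y z
  · obtain ⟨z, hz, hcz⟩ := hcs
    have hnorm : R ≤ normalizer (zpowers z : Set X) := fun y hy =>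
      Coprime.mem_normalizer_of_conj_map_le fun f hf => by
        obtain ⟨i, rfl⟩ := mem_zpowers_iff.1 hf
        rw [((hcz y hy).zpow_right i).eq, mul_inv_cancel_right]
        exact zpow_mem (mem_zpowers z) i
    haveI := h.cyc z hz.mem hz.prime
    obtain ⟨q, hqp, hqd⟩ := Nat.exists_prime_and_dvd (n := Nat.card (fixedIn F z))
      fun e => hz.fix (Subgroup.card_eq_one.1 e)
    haveI := Fact.mk hqp
    refine h.common_of_central hz hqd (fun e => ?_) fun z' hz' => ⟨hcz z' hz'.mem, fun k hk => ?_⟩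
    · refine h.free_coprime x₀ hx₀ ?_
      rw [← hl, ← hord z hz.mem hz.prime, ← e]
      exact hqd.trans (card_dvd_of_le inf_le_left)
    · exact (mem_centralizer_iff.1 (h.commutator_le_centralizer_of_cyclic (h.fixedIn_normal hnorm)
        (h.singular_mem z' hz')) k hk).symm
  exfalso
  push Not at hcs
  obtain ⟨q, hqp, hql, hqd⟩ := h.other l
  haveI := Fact.mk hqp
  -- a normal subgroup of order `l²`
  obtain ⟨A, -, hAn, hAe, hAc⟩ := Fusion.NormalRankTwo.exists_normal_rankTwo hRp hl2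
    (S := (⊤ : Subgroup R)) fun hcyc => by
      haveI : IsCyclic R := isCyclic_of_surjective Subgroup.topEquiv.toMonoidHom
        Subgroup.topEquiv.surjective
      refine hz₀.fixed_ne hx₀ ?_
      exact mem_zpowers_of_cyclic (W := R) hx₀.mem (pow_orderOf_eq_one x₀)
        (fun e => hx₀.prime.ne_one (by rw [e, orderOf_one])) hz₀.mem
        (by rw [← hall x₀ z₀ hx₀ hz₀]; exact pow_orderOf_eq_one z₀)
  haveI := hAn
  haveI := hAe.1
  have hA1 : A ≠ ⊥ := fun e => by
    rw [e, Subgroup.card_bot] at hAc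
    exact absurd hAc.symm (Nat.one_lt_pow two_ne_zero hx₀.prime.one_lt).ne'
  obtain ⟨⟨c, hc⟩, hc1⟩ := Subgroup.ne_bot_iff_exists_ne_one.1
    (Solvable.FrattiniFitting.inf_center_ne_bot A hA1)
  obtain ⟨hcA, hcZ⟩ := Subgroup.mem_inf.1 hc
  have hc1' : c ≠ 1 := fun e => hc1 (Subtype.ext e)
  have hcl : orderOf c = l := orderOf_eq_prime (hAe.2 c hcA) hc1'
  have hcX : orderOf (c : X) = l := by rw [Subgroup.orderOf_coe, hcl]
  have hccomm : ∀ y ∈ R, Commute y (c : X) := fun y hy =>
    congrArg Subtype.val (Subgroup.mem_center_iff.1 hcZ ⟨y, hy⟩)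
  have hcfree : IsFree F R (c : X) := by
    rcases free_or_singular c.2 (hcX ▸ hx₀.prime) with hf | hs
    · exact hf
    · obtain ⟨y, hy, hyc⟩ := hcs c hs
      exact absurd (hccomm y hy) hyc
  set A' := A.map R.subtype with hA'
  haveI : IsMulCommutative A' := IsMulCommutative.of_comm <| by
    rintro ⟨_, a, ha, rfl⟩ ⟨_, b, hb, rfl⟩
    refine Subtype.ext ?_
    show (a : X) * b = b * a
    exact congrArg (fun y : A => ((y : R) : X)) (mul_comm' (⟨a, ha⟩ : A) ⟨b, hb⟩)
  have hA'R : A' ≤ R := map_subtype_le _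
  have hA'exp : ∀ a ∈ A', a ^ l = 1 := by
    rintro _ ⟨a, ha, rfl⟩; rw [← map_pow, hAe.2 a ha, map_one]
  have hA'card : Nat.card A' = l ^ 2 := by rw [hA', Coprime.card_map_subtype, hAc]
  have hA'nc : ¬ IsCyclic A' := fun hcyc => by
    haveI := hcyc
    obtain ⟨g, hg⟩ := IsCyclic.exists_generator (α := A')
    have h2 : orderOf g ∣ l := orderOf_dvd_of_pow_eq_one (Subtype.ext (hA'exp g g.2))
    rw [orderOf_eq_card_of_forall_mem_zpowers hg, hA'card] at h2
    have h3 := Nat.le_of_dvd hx₀.prime.pos h2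
    nlinarith [hx₀.prime.one_lt]
  have hcop := h.coprime_torsion hx₀.prime hql hA'card
  -- the centraliser of `A` is `A`
  set C := (centralizer (A : Set R)).map R.subtype with hC
  have hCpow : ∀ y ∈ C, ∀ a ∈ A', a ≠ 1 → ∀ f ∈ h.torsion q, a * f = f * a → f ≠ 1 →
      IsSingular F R a ∧ Commute y a ∧ y ∈ R ∧ f ∈ fixedIn F a := by
    intro y hy a ha ha1 f hf haf hf1
    obtain ⟨y', hy', rfl⟩ := hy
    obtain ⟨a', ha', rfl⟩ := ha
    refine ⟨⟨a'.2, ?_, fun e => hf1 ?_⟩, ?_, y'.2, mem_fixedIn.2 ⟨hf.1, haf⟩⟩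
    · rw [orderOf_eq_prime (hA'exp _ ⟨a', ha', rfl⟩) ha1]; exact hx₀.prime
    · have h1 : f ∈ fixedIn F (R.subtype a') := mem_fixedIn.2 ⟨hf.1, haf⟩
      rw [e, mem_bot] at h1; exact h1
    · exact (congrArg Subtype.val (mem_centralizer_iff.1 hy' a' ha')).symm
  have hgen := Coprime.iSup_centralizer_singleton hA'nc (hA'R.trans (h.torsion_normal q)) hcop
  have hkill : ∀ y ∈ R, (∀ a ∈ A', a ≠ 1 → ∀ f ∈ h.torsion q, a * f = f * a → f ≠ 1 →
      y * f = f * y) → y = 1 := by
    intro y hy hy'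
    refine h.eq_one_of_torsion hqd hy fun f hf => ?_
    have hle : h.torsion q ≤ centralizer ({y} : Set X) := by
      rw [← hgen]
      refine iSup₂_le fun a ha g hg => mem_centralizer_singleton_iff.2 ?_
      by_cases hg1 : g = 1
      · simp [hg1]
      · exact (hy' a ha.1 ha.2 g hg.1
          (mem_centralizer_singleton_iff.1 hg.2).symm hg1).symm
    exact (mem_centralizer_singleton_iff.1 (hle hf)).symm
  have hCR : C ≤ R := map_subtype_le _
  have hCexp : ∀ y ∈ C, y ^ l = 1 := fun y hy => hkill _ (pow_mem (hCR hy) l)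
    fun a ha ha1 f hf haf hf1 => by
      obtain ⟨hs, hya, -, hfa⟩ := hCpow y hy a ha ha1 f hf haf hf1
      have := h.pow_fixes hs hcfree (hccomm a hs.mem).symm (hCR hy) hya f hfa
      rwa [hcX] at this
  haveI : IsMulCommutative C := IsMulCommutative.of_comm fun ⟨y, hy⟩ ⟨w, hw⟩ => by
    refine Subtype.ext ?_
    have h1 : ⁅y, w⁆ = 1 := hkill _ (by
        rw [commutatorElement_def]
        exact mul_mem (mul_mem (mul_mem (hCR hy) (hCR hw)) (inv_mem (hCR hy))) (inv_mem (hCR hw)))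
      fun a ha ha1 f hf haf hf1 => by
        obtain ⟨hs, hya, -, hfa⟩ := hCpow y hy a ha ha1 f hf haf hf1
        obtain ⟨-, hwa, -, -⟩ := hCpow w hw a ha ha1 f hf haf hf1
        haveI := h.cyc a hs.mem hs.prime
        have hnorm : ∀ v ∈ R, Commute v a → v ∈ normalizer (fixedIn F a : Set X) := fun v hv hva =>
          Coprime.mem_normalizer_of_conj_map_le fun g hg => by
            obtain ⟨i, hi⟩ := h.powers a hs v hv hva
            rw [hi g hg]; exact pow_mem hg _
        have h2 := StrongCore.comm_mem_centralizer (hnorm y (hCR hy) hya) (hnorm w (hCR hw) hwa)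
        rw [← commutatorElement_def] at h2
        exact (mem_centralizer_iff.1 h2 f hfa).symm
    exact (commutatorElement_eq_one_iff_commute.1 h1).eq
  have hCA : centralizer (A : Set R) = A := by
    have hle : A ≤ centralizer (A : Set R) := fun a ha => mem_centralizer_iff.2 fun b hb =>
      congrArg Subtype.val (mul_comm' (⟨b, hb⟩ : A) ⟨a, ha⟩)
    refine (eq_of_le_of_card_ge hle ?_).symm
    have h1 := h.card_elementary_le hx₀.prime (E := C) hCR hCexp
    rwa [hC, Coprime.card_map_subtype, ← hAc] at h1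
  -- hence the derived subgroup lies in `⟨c⟩`
  have hcg : ∀ g : R, Commute g c := fun g => Subgroup.mem_center_iff.1 hcZ g
  set N := zpowers c with hN
  haveI : N.Normal := ⟨fun m hm g => by
    obtain ⟨i, rfl⟩ := mem_zpowers_iff.1 hm
    rw [((hcg g).zpow_right i).eq, mul_inv_cancel_right]
    exact zpow_mem (mem_zpowers c) i⟩
  have hNle : N ≤ A := zpowers_le.2 hcA
  have hNcard : Nat.card N = l := (Nat.card_zpowers c).trans hcl
  obtain ⟨a₁, ha₁, ha₁N⟩ : ∃ a₁ ∈ A, a₁ ∉ N := by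
    by_contra hcon
    push Not at hcon
    have := Subgroup.card_dvd_of_le (fun a ha => hcon a ha : A ≤ N)
    rw [hAc, hNcard] at this
    have h3 := Nat.le_of_dvd hx₀.prime.pos this
    nlinarith [hx₀.prime.one_lt]
  have hbr : ∀ g : R, g * a₁ * g⁻¹ * a₁⁻¹ ∈ N := by
    intro g
    set π := QuotientGroup.mk' N
    have hQp : IsPGroup l (R ⧸ N) := hRp.to_quotient N
    haveI : Group.IsNilpotent (R ⧸ N) := hQp.isNilpotent
    haveI hAπ : (A.map π).Normal := hAn.map π (QuotientGroup.mk'_surjective N)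
    have hcardπ : Nat.card (A.map π) = l := by
      have h1 := Solvable.Basic.card_comap_mk (A.map π) (N := N)
      rw [comap_map_eq, QuotientGroup.ker_mk', sup_eq_left.2 hNle, hAc, hNcard, pow_two] at h1
      exact (Nat.eq_of_mul_eq_mul_right hx₀.prime.pos h1).symm
    have hne : A.map π ≠ ⊥ := fun e => by
      rw [e, Subgroup.card_bot] at hcardπ
      exact hx₀.prime.ne_one hcardπ.symm
    have hcen : A.map π ≤ center (R ⧸ N) := by
      refine inf_eq_left.1 (eq_of_le_of_card_ge inf_le_left ?_)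
      have h1 := Subgroup.card_dvd_of_le (inf_le_left : A.map π ⊓ center (R ⧸ N) ≤ A.map π)
      rw [hcardπ] at h1 ⊢
      rcases hx₀.prime.eq_one_or_self_of_dvd _ h1 with e | e
      · exact absurd (Subgroup.card_eq_one.1 e)
          (Solvable.FrattiniFitting.inf_center_ne_bot _ hne)
      · exact e.ge
    have h2 := Subgroup.mem_center_iff.1 (hcen (mem_map_of_mem π ha₁)) (π g)
    rw [← QuotientGroup.eq_one_iff]
    change π (g * a₁ * g⁻¹ * a₁⁻¹) = 1
    rw [map_mul, map_mul, map_mul, h2, map_inv, map_inv]; group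
  let ψ : R →* N := MonoidHom.mk' (fun g => ⟨g * a₁ * g⁻¹ * a₁⁻¹, hbr g⟩) fun g g' => by
    refine Subtype.ext ?_
    obtain ⟨i, hi⟩ := mem_zpowers_iff.1 (hbr g')
    have hcm : g * (g' * a₁ * g'⁻¹ * a₁⁻¹) * g⁻¹ = g' * a₁ * g'⁻¹ * a₁⁻¹ := by
      rw [← hi, ((hcg g).zpow_right i).eq,
        mul_inv_cancel_right]
    show g * g' * a₁ * (g * g')⁻¹ * a₁⁻¹ = g * a₁ * g⁻¹ * a₁⁻¹ * (g' * a₁ * g'⁻¹ * a₁⁻¹)
    calc g * g' * a₁ * (g * g')⁻¹ * a₁⁻¹
        = g * (g' * a₁ * g'⁻¹ * a₁⁻¹) * g⁻¹ * (g * a₁ * g⁻¹ * a₁⁻¹) := by group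
      _ = (g' * a₁ * g'⁻¹ * a₁⁻¹) * (g * a₁ * g⁻¹ * a₁⁻¹) := by rw [hcm]
      _ = _ := congrArg Subtype.val (mul_comm' (⟨_, hbr g'⟩ : N) ⟨_, hbr g⟩)
  have hψker : ψ.ker ≤ A := by
    intro g hg
    rw [MonoidHom.mem_ker, Subtype.ext_iff] at hg
    change g * a₁ * g⁻¹ * a₁⁻¹ = 1 at hg
    rw [mul_inv_eq_one, mul_inv_eq_iff_eq_mul] at hg
    rw [← hCA, mem_centralizer_iff]
    have hle : A ≤ centralizer ({g} : Set R) := by
      have hsub : N ⊔ zpowers a₁ ≤ centralizer ({g} : Set R) := sup_le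
        (zpowers_le.2 (mem_centralizer_singleton_iff.2 (Subgroup.mem_center_iff.1 hcZ g).symm))
        (zpowers_le.2 (mem_centralizer_singleton_iff.2 hg.symm))
      refine le_trans (le_of_eq ?_) hsub
      have hle' : N ⊔ zpowers a₁ ≤ A := sup_le hNle (zpowers_le.2 ha₁)
      refine (eq_of_le_of_card_ge hle' ?_).symm
      rw [hAc]
      have h1 := Subgroup.card_dvd_of_le hle'
      rw [hAc] at h1
      obtain ⟨j, hj, e⟩ := (Nat.dvd_prime_pow hx₀.prime).1 h1
      rw [e]
      refine Nat.pow_le_pow_right hx₀.prime.pos ?_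
      by_contra hj2
      have h2 : Nat.card ↥(N ⊔ zpowers a₁) ≤ l :=
        e ▸ (Nat.pow_le_pow_right hx₀.prime.pos (by omega : j ≤ 1)).trans_eq (pow_one l)
      have h3 := eq_of_le_of_card_ge (le_sup_left : N ≤ N ⊔ zpowers a₁) (hNcard.symm ▸ h2)
      exact ha₁N (h3 ▸ mem_sup_right (mem_zpowers a₁))
    intro a ha
    exact mem_centralizer_singleton_iff.1 (hle ha)
  have hder : commutator R ≤ N := by
    have hidx : ψ.ker.index ≤ l := by
      rw [index_ker, ← hNcard]
      exact Subgroup.card_le_card_group _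
    have h1 : Nat.card R ≤ l ^ 3 := by
      rw [← Subgroup.card_mul_index ψ.ker, pow_succ, ← hAc]
      exact Nat.mul_le_mul (Nat.le_of_dvd Nat.card_pos (Subgroup.card_dvd_of_le hψker)) hidx
    haveI : IsMulCommutative (R ⧸ N) := by
      obtain ⟨j, hj⟩ := (hRp.to_quotient N).exists_card_eq
      have hj2 : j ≤ 2 := by
        have h2 := Subgroup.card_eq_card_quotient_mul_card_subgroup N
        rw [hj, hNcard, ← pow_succ] at h2
        rw [h2] at h1
        have := (Nat.pow_le_pow_iff_right hx₀.prime.one_lt).1 h1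
        omega
      rcases Nat.lt_or_ge j 2 with hlt | hge
      · haveI : IsCyclic (R ⧸ N) := by
          rcases Nat.lt_or_ge j 1 with h0 | h0
          · haveI : Subsingleton (R ⧸ N) := (Nat.card_eq_one_iff_unique.1 (by
              rw [hj, show j = 0 by omega, pow_zero])).1
            exact isCyclic_of_subsingleton
          · exact isCyclic_of_prime_card (p := l) (by rw [hj, show j = 1 by omega, pow_one])
        exact IsMulCommutative.of_comm fun u v => by
          letI := IsCyclic.commGroup (α := R ⧸ N); exact mul_comm u v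
      · exact IsMulCommutative.of_comm
          (IsPGroup.commutative_of_card_eq_prime_sq (p := l) (by rw [hj, show j = 2 by omega]))
    exact (Subgroup.Normal.quotient_commutative_iff_commutator_le (N := N)).1 inferInstance
  have hz₀der : (⟨z₀, hz₀.mem⟩ : R) ∈ commutator R := by
    have h1 := h.singular_mem z₀ hz₀
    rw [← Coprime.map_commutator_subtype] at h1
    obtain ⟨y, hy, e⟩ := h1
    rwa [show (⟨z₀, hz₀.mem⟩ : R) = y from Subtype.ext e.symm]
  obtain ⟨i, hi⟩ := mem_zpowers_iff.1 (hder hz₀der)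
  exact hz₀.fixed_ne hcfree (mem_zpowers_iff.2 ⟨i, congrArg Subtype.val hi⟩)

/-- A nontrivial element of `F` lies in `[F, z]` for every singular element `z`. -/
theorem common : Common F R := by
  obtain ⟨x₀, hx₀⟩ := h.exists_free
  by_cases hsing : ∃ z, IsSingular F R z
  swap
  · push Not at hsing
    obtain ⟨q, hqp, -, hqd⟩ := h.other 0
    haveI := Fact.mk hqp
    exact h.common_of_free hqd fun z hz => absurd hz (hsing z)
  obtain ⟨z₀, hz₀⟩ := hsing
  by_cases hex : ∃ x z, IsFree F R x ∧ IsSingular F R z ∧ orderOf z ≠ orderOf x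
  · obtain ⟨x, z, hx, hz, hne⟩ := hex
    exact h.common_of_two_primes hx hz hne
  · push Not at hex
    exact h.common_of_one_prime hx₀ hz₀ hex

end Data

end CfsgLib.LocalEven.BenderSplit.Singular
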