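import Cfsg.Agent.Lib.Coprime.Generation
import Cfsg.Agent.Lib.LocalEven.StrongCore.TwoCore
import Cfsg.Agent.Lib.Solvable.FittingFixedPointFree
import Cfsg.Agent.Lib.OddOrder.RankTwoGlobal
import Cfsg.Agent.Lib.OddOrder.Final.Main

/-!
# Complements with cyclic fixed subgroups: basic facts

`R` normalises the abelian group `F` and acts faithfully on it; the elements of prime order of
`R` have cyclic fixed subgroups, while every Sylow subgroup of `F` is non-cyclic.
-/

set_option autoImplicit false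

namespace CfsgLib.LocalEven.BenderSplit.Singular

open Subgroup
open scoped commutatorElement

variable {X : Type*} [Group X]

/-- The fixed subgroup of `z` in `F`. -/
def fixedIn (F : Subgroup X) (z : X) : Subgroup X := F ⊓ centralizer ({z} : Set X)

theorem mem_fixedIn {F : Subgroup X} {z f : X} :
    f ∈ fixedIn F z ↔ f ∈ F ∧ z * f = f * z := by
  rw [fixedIn, Subgroup.mem_inf, mem_centralizer_singleton_iff]
  constructor <;> rintro ⟨h1, h2⟩ <;> exact ⟨h1, h2.symm⟩

/-- An element of prime order of `R` without fixed points on `F`. -/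
structure IsFree (F R : Subgroup X) (x : X) : Prop where
  mem : x ∈ R
  prime : (orderOf x).Prime
  fix : fixedIn F x = ⊥

/-- An element of prime order of `R` with a fixed point on `F`. -/
structure IsSingular (F R : Subgroup X) (z : X) : Prop where
  mem : z ∈ R
  prime : (orderOf z).Prime
  fix : fixedIn F z ≠ ⊥

theorem free_or_singular {F R : Subgroup X} {y : X} (hy : y ∈ R) (hp : (orderOf y).Prime) :
    IsFree F R y ∨ IsSingular F R y := by
  by_cases h : fixedIn F y = ⊥
  · exact .inl ⟨hy, hp, h⟩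
  · exact .inr ⟨hy, hp, h⟩

/-- The hypotheses on `F` and `R`. -/
structure Data (F R : Subgroup X) : Prop where
  norm : R ≤ normalizer (F : Set X)
  comm : ∀ f ∈ F, ∀ g ∈ F, f * g = g * f
  oddF : Odd (Nat.card F)
  oddR : Odd (Nat.card R)
  faithful : ∀ y ∈ R, (∀ f ∈ F, y * f = f * y) → y = 1
  cyc : ∀ z ∈ R, (orderOf z).Prime → IsCyclic (fixedIn F z)
  noncyc : ∀ q : ℕ, q.Prime → q ∣ Nat.card F →
    ∃ f ∈ F, ∃ g ∈ F, f ^ q = 1 ∧ g ^ q = 1 ∧ f ≠ 1 ∧ g ∉ zpowers f
  other : ∀ s : ℕ, ∃ q, q.Prime ∧ q ≠ s ∧ q ∣ Nat.card F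
  exists_free : ∃ x, IsFree F R x
  free_coprime : ∀ x, IsFree F R x → ¬ orderOf x ∣ Nat.card F
  singular_mem : ∀ z, IsSingular F R z → z ∈ ⁅R, R⁆
  powers : ∀ z, IsSingular F R z → ∀ c ∈ R, Commute c z →
    ∃ i : ℕ, ∀ k ∈ fixedIn F z, c * k * c⁻¹ = k ^ 2 ^ i
  card_fixed : ∀ z, IsSingular F R z → ∃ a : ℕ, Nat.card (fixedIn F z) = 2 ^ a - 1
  card_of_free : ∀ z, IsSingular F R z → ∀ x, IsFree F R x → Commute x z →
    Nat.card (fixedIn F z) = 2 ^ orderOf x - 1

variable {F R : Subgroup X}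

/-- In a cyclic subgroup the elements killed by a prime are powers of any nontrivial one. -/
theorem mem_zpowers_of_cyclic [Finite X] {W : Subgroup X} [IsCyclic W] {q : ℕ} [Fact q.Prime]
    {f g : X} (hf : f ∈ W) (hfq : f ^ q = 1) (hf1 : f ≠ 1) (hg : g ∈ W) (hgq : g ^ q = 1) :
    g ∈ zpowers f := by
  classical
  haveI := Fintype.ofFinite W
  set f' : W := ⟨f, hf⟩
  set g' : W := ⟨g, hg⟩
  set S := Finset.univ.filter fun a : W => a ^ q = 1
  have hsub : (Finset.univ.filter fun a : W => a ∈ zpowers f') ⊆ S := fun a ha => by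
    simp only [Finset.mem_filter, Finset.mem_univ, true_and, S] at ha ⊢
    obtain ⟨i, rfl⟩ := mem_zpowers_iff.1 ha
    rw [← zpow_natCast, ← zpow_mul, mul_comm, zpow_mul, zpow_natCast,
      show f' ^ q = 1 from Subtype.ext hfq, one_zpow]
  have hcard : (Finset.univ.filter fun a : W => a ∈ zpowers f').card = q := by
    rw [← Fintype.card_subtype, ← Nat.card_eq_fintype_card]
    exact (Nat.card_zpowers f').trans
      (orderOf_eq_prime (Subtype.ext hfq) fun e => hf1 (congrArg Subtype.val e))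
  have heq := Finset.eq_of_subset_of_card_le hsub
    ((IsCyclic.card_pow_eq_one_le (Nat.Prime.pos Fact.out)).trans hcard.ge)
  have hg' : g' ∈ S := Finset.mem_filter.2 ⟨Finset.mem_univ _, Subtype.ext hgq⟩
  rw [← heq] at hg'
  obtain ⟨i, hi⟩ := mem_zpowers_iff.1 (Finset.mem_filter.1 hg').2
  exact mem_zpowers_iff.2 ⟨i, congrArg Subtype.val hi⟩

namespace Data

variable (h : Data F R)

include h

/-- The elements of `F` killed by `q`. -/
def torsion (q : ℕ) : Subgroup X where
  carrier := {f | f ∈ F ∧ f ^ q = 1}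
  one_mem' := ⟨one_mem F, one_pow q⟩
  mul_mem' := by
    rintro f g ⟨hf, hf'⟩ ⟨hg, hg'⟩
    exact ⟨mul_mem hf hg, by rw [(show Commute f g from h.comm f hf g hg).mul_pow, hf', hg', one_mul]⟩
  inv_mem' := by
    rintro f ⟨hf, hf'⟩
    exact ⟨inv_mem hf, by rw [inv_pow, hf', inv_one]⟩

theorem mem_torsion {q : ℕ} {f : X} : f ∈ h.torsion q ↔ f ∈ F ∧ f ^ q = 1 := Iff.rfl

variable [Finite X]

theorem torsion_normal (q : ℕ) : R ≤ normalizer (h.torsion q : Set X) := fun y hy =>
  Coprime.mem_normalizer_of_conj_map_le fun _ hf => h.mem_torsion.2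
    ⟨BenderTransitive.conj_mem_of_mem_normalizer (h.norm hy) hf.1,
      by rw [conj_pow, hf.2, mul_one, mul_inv_cancel]⟩

theorem not_torsion_le {q : ℕ} [Fact q.Prime] (hq : q ∣ Nat.card F) {W : Subgroup X}
    [IsCyclic W] :
    ¬ h.torsion q ≤ W := by
  intro hle
  obtain ⟨f, hf, g, hg, hfq, hgq, hf1, hgf⟩ := h.noncyc q Fact.out hq
  exact hgf (mem_zpowers_of_cyclic (hle (h.mem_torsion.2 ⟨hf, hfq⟩)) hfq hf1
    (hle (h.mem_torsion.2 ⟨hg, hgq⟩)) hgq)

theorem card_torsion_dvd {q : ℕ} [Fact q.Prime] : ∃ n, Nat.card (h.torsion q) = q ^ n :=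
  IsPGroup.exists_card_eq (p := q) fun f => ⟨1, Subtype.ext (by rw [pow_one]; exact f.2.2)⟩

theorem coprime_torsion {s q : ℕ} [Fact q.Prime] (hs : s.Prime) (hne : q ≠ s) {A : Subgroup X}
    {k : ℕ} (hA : Nat.card A = s ^ k) : (Nat.card A).Coprime (Nat.card (h.torsion q)) := by
  obtain ⟨n, hn⟩ := h.card_torsion_dvd (q := q)
  rw [hA, hn]
  exact ((Nat.coprime_primes hs Fact.out).2 (Ne.symm hne)).pow k n

/-- Two elements of prime order fixing a common nontrivial element of `q`-torsion fix the same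
`q`-torsion. -/
theorem torsion_fixed_eq {q : ℕ} [Fact q.Prime] {z z' f : X} (hz : z ∈ R)
    (hzp : (orderOf z).Prime) (hz' : z' ∈ R) (hz'p : (orderOf z').Prime) (hf : f ∈ h.torsion q)
    (hf1 : f ≠ 1) (hfz : z * f = f * z) (hfz' : z' * f = f * z') {g : X} (hg : g ∈ h.torsion q)
    (hgz : z * g = g * z) : z' * g = g * z' := by
  haveI := h.cyc z hz hzp
  have hfW : f ∈ fixedIn F z := mem_fixedIn.2 ⟨hf.1, hfz⟩
  have hgW : g ∈ fixedIn F z := mem_fixedIn.2 ⟨hg.1, hgz⟩
  obtain ⟨i, hi⟩ := mem_zpowers_iff.1 (mem_zpowers_of_cyclic hfW hf.2 hf1 hgW hg.2)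
  rw [← hi]
  exact ((show Commute z' f from hfz').zpow_right i).eq

/-- An element of `R` centralising the `q`-torsion is trivial. -/
theorem eq_one_of_torsion {q : ℕ} [Fact q.Prime] (hq : q ∣ Nat.card F) {y : X} (hy : y ∈ R)
    (hc : ∀ f ∈ h.torsion q, y * f = f * y) : y = 1 := by
  by_contra hy1
  obtain ⟨r, hr, hrd⟩ := Nat.exists_prime_and_dvd (orderOf_eq_one_iff.not.2 hy1)
  set y' := y ^ (orderOf y / r) with hy'
  have ho : orderOf y' = r := by
    rw [hy', orderOf_pow' _ (Nat.div_pos (Nat.le_of_dvd (orderOf_pos y) hrd) hr.pos).ne',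
      Nat.gcd_eq_right (Nat.div_dvd_of_dvd hrd), Nat.div_div_self hrd (orderOf_pos y).ne']
  haveI := h.cyc y' (pow_mem hy _) (ho ▸ hr)
  exact h.not_torsion_le hq (W := fixedIn F y') fun f hf =>
    mem_fixedIn.2 ⟨hf.1, ((show Commute y f from hc f hf).pow_left _).eq⟩

/-- The torsion is generated by the fixed points of the elements of a non-cyclic coprime abelian
subgroup, so these are not all contained in a common cyclic subgroup. -/
theorem exists_fixed_not_mem {q : ℕ} [Fact q.Prime] (hq : q ∣ Nat.card F) {A W : Subgroup X}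
    [IsMulCommutative A] [IsCyclic W] (hA : A ≤ R) (hAnc : ¬ IsCyclic A)
    (hcop : (Nat.card A).Coprime (Nat.card (h.torsion q))) :
    ∃ y ∈ A, y ≠ 1 ∧ ∃ f ∈ h.torsion q, y * f = f * y ∧ f ∉ W := by
  by_contra hcon
  push Not at hcon
  refine h.not_torsion_le hq (W := W) ?_
  rw [← Coprime.iSup_centralizer_singleton hAnc (hA.trans (h.torsion_normal q)) hcop]
  refine iSup₂_le fun y hy f hf => ?_
  exact hcon y hy.1 hy.2 f hf.1 (mem_centralizer_singleton_iff.1 hf.2).symm

theorem exists_fixed {q : ℕ} [Fact q.Prime] (hq : q ∣ Nat.card F) {A : Subgroup X}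
    [IsMulCommutative A] (hA : A ≤ R) (hAnc : ¬ IsCyclic A)
    (hcop : (Nat.card A).Coprime (Nat.card (h.torsion q))) :
    ∃ y ∈ A, y ≠ 1 ∧ ∃ f ∈ h.torsion q, y * f = f * y ∧ f ≠ 1 := by
  obtain ⟨y, hy, hy1, f, hf, hyf, hfW⟩ :=
    h.exists_fixed_not_mem hq (W := (⊥ : Subgroup X)) hA hAnc hcop
  exact ⟨y, hy, hy1, f, hf, hyf, fun e => hfW (e ▸ one_mem _)⟩

/-- The rank of `R` is at most two. -/
theorem card_elementary_le {l : ℕ} (hl : l.Prime) {E : Subgroup X} [IsMulCommutative E]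
    (hER : E ≤ R) (hE : ∀ e ∈ E, e ^ l = 1) : Nat.card E ≤ l ^ 2 := by
  haveI := Fact.mk hl
  by_contra hlt
  push Not at hlt
  obtain ⟨n, hn⟩ := IsPGroup.exists_card_eq (p := l) (G := E) fun e =>
    ⟨1, Subtype.ext (by rw [pow_one]; exact hE e e.2)⟩
  have hn3 : 3 ≤ n := by
    by_contra hh
    push Not at hh
    rw [hn] at hlt
    exact absurd (Nat.pow_le_pow_right hl.pos (by omega : n ≤ 2)) (not_le.2 hlt)
  obtain ⟨q, hqp, hqs, hqd⟩ := h.other l
  haveI := Fact.mk hqp
  have hcop := h.coprime_torsion hl hqs hn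
  have hgen := Coprime.iSup_centralizer_of_cyclic_quotient (hER.trans (h.torsion_normal q)) hcop
  have hsize : ∀ B : Subgroup X, B ≤ E → (∃ a ∈ E, B ⊔ zpowers a = E) →
      l ^ (n - 1) ∣ Nat.card B := by
    rintro B hBE ⟨a, ha, e⟩
    have hao : orderOf a ∣ l := orderOf_dvd_of_pow_eq_one (hE a ha)
    haveI : (B.subgroupOf E).Normal := inferInstance
    have h1 := Solvable.Basic.card_sup_mul (B.subgroupOf E) ((zpowers a).subgroupOf E)
    have h2 : (zpowers a).subgroupOf E ⊔ B.subgroupOf E = ⊤ := by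
      rw [← Subgroup.subgroupOf_sup (zpowers_le.2 ha) hBE, sup_comm, e, subgroupOf_self]
    rw [h2, card_top, hn, Nat.card_congr (subgroupOfEquivOfLe hBE).toEquiv,
      Nat.card_congr (subgroupOfEquivOfLe (zpowers_le.2 ha)).toEquiv, Nat.card_zpowers] at h1
    have h3 : l ^ n ∣ l * Nat.card B := by
      have : l ^ n ∣ orderOf a * Nat.card B := h1 ▸ Dvd.intro _ rfl
      exact this.trans (Nat.mul_dvd_mul_right hao _)
    rw [show n = (n - 1) + 1 by omega, pow_succ'] at h3
    exact Nat.dvd_of_mul_dvd_mul_left hl.pos h3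
  -- every fixed subgroup lies in one cyclic subgroup
  obtain ⟨B₀, hB₀E, hB₀q, f, hf, hfB, hf1⟩ : ∃ B : Subgroup X, B ≤ E ∧
      (∃ a ∈ E, B ⊔ zpowers a = E) ∧ ∃ f ∈ h.torsion q, f ∈ centralizer (B : Set X) ∧ f ≠ 1 := by
    by_contra hcon
    push Not at hcon
    haveI : IsCyclic (⊥ : Subgroup X) := isCyclic_of_subsingleton
    refine h.not_torsion_le hqd (W := (⊥ : Subgroup X)) ?_
    rw [← hgen]
    exact iSup₂_le fun B hB f hf => by
      rw [mem_bot]
      by_contra hf1
      exact hf1 (hcon B hB.1 hB.2 f hf.1 hf.2)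
  haveI : IsCyclic (zpowers f) := inferInstance
  refine h.not_torsion_le hqd (W := zpowers f) ?_
  rw [← hgen]
  refine iSup₂_le fun B hB g hg => ?_
  -- a common element of `B₀` and `B`
  obtain ⟨z, hzB₀, hzB, hzl⟩ : ∃ z ∈ B₀, z ∈ B ∧ orderOf z = l := by
    have h0 := hsize B₀ hB₀E hB₀q
    have h1 := hsize B hB.1 hB.2
    by_contra hcon
    push Not at hcon
    have hbot : B₀ ⊓ B = ⊥ := (Subgroup.eq_bot_iff_forall _).2 fun z hz => by
      by_contra hz1
      exact hcon z hz.1 hz.2 (orderOf_eq_prime (hE z (hB₀E hz.1)) hz1)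
    haveI : (B₀.subgroupOf E).Normal := inferInstance
    have h2 := Solvable.Basic.card_sup_mul (B₀.subgroupOf E) (B.subgroupOf E)
    rw [show B₀.subgroupOf E ⊓ B.subgroupOf E = (B₀ ⊓ B).subgroupOf E from rfl, hbot,
      bot_subgroupOf, Subgroup.card_bot, mul_one,
      Nat.card_congr (subgroupOfEquivOfLe hB₀E).toEquiv,
      Nat.card_congr (subgroupOfEquivOfLe hB.1).toEquiv] at h2
    have h3 : Nat.card ↥(B.subgroupOf E ⊔ B₀.subgroupOf E) ≤ l ^ n :=
      hn ▸ Subgroup.card_le_card_group _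
    rw [h2] at h3
    have h4 := Nat.mul_le_mul (Nat.le_of_dvd Nat.card_pos h1) (Nat.le_of_dvd Nat.card_pos h0)
    rw [← pow_add] at h4
    exact absurd ((Nat.pow_le_pow_iff_right hl.one_lt).1 (h4.trans h3)) (by omega)
  have hzR : z ∈ R := hER (hB₀E hzB₀)
  haveI := h.cyc z hzR (hzl ▸ hl)
  have hfz : f ∈ fixedIn F z := mem_fixedIn.2 ⟨hf.1, mem_centralizer_iff.1 hfB z hzB₀⟩
  have hgz : g ∈ fixedIn F z := mem_fixedIn.2 ⟨hg.1.1, mem_centralizer_iff.1 hg.2 z hzB⟩
  exact mem_zpowers_of_cyclic hfz hf.2 hf1 hgz hg.1.2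

theorem pRankLE (l : ℕ) (hl : l.Prime) (T : Subgroup R) : Cfsg.PRankLE l 2 T := by
  intro E hEc hE
  haveI := hEc
  have h1 := h.card_elementary_le hl (E := (E.map T.subtype).map R.subtype)
    (map_subtype_le _) (by
      rintro _ ⟨_, ⟨e, he, rfl⟩, rfl⟩
      rw [← map_pow, ← map_pow, hE e he, map_one, map_one])
  rwa [Coprime.card_map_subtype, Coprime.card_map_subtype] at h1

theorem derived_le : commutator R ≤ Cfsg.fittingSubgroup R := by
  haveI : Group.IsSolvable R := OddOrder.Final.oddSolvable R h.oddR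
  exact OddOrder.RankTwoGlobal.derived_le_fitting h.oddR fun p hp => h.pRankLE p hp _

/-- A singular element of order `s` lies in `O_s(R)`. -/
theorem mem_core {z : X} (hz : IsSingular F R z) :
    z ∈ (Cfsg.pCore (orderOf z) R).map R.subtype := by
  haveI := Fact.mk hz.prime
  have hmem : (⟨z, hz.mem⟩ : R) ∈ commutator R := by
    have h1 := h.singular_mem z hz
    rw [← Coprime.map_commutator_subtype] at h1
    obtain ⟨y, hy, e⟩ := h1
    rwa [show (⟨z, hz.mem⟩ : R) = y from Subtype.ext e.symm]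
  haveI : (Cfsg.fittingSubgroup R).Normal := Solvable.Cores.fittingSubgroup_normal
  haveI := Solvable.Cores.fittingSubgroup_isNilpotent (G := R)
  exact ⟨_, OddOrder.RankTwoGlobal.mem_pCore_of_mem (h.derived_le hmem)
    ⟨1, by rw [pow_one, Subgroup.orderOf_mk]⟩, rfl⟩

/-- An element without fixed points centralises the `s`-core for every other prime `s`. -/
theorem free_commute_core {x : X} (hx : IsFree F R x) {s : ℕ} [hs : Fact s.Prime]
    (hsl : s ≠ orderOf x) {y : X} (hy : y ∈ (Cfsg.pCore s R).map R.subtype) : Commute x y := by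
  set l := orderOf x with hl
  haveI := Fact.mk hx.prime
  set S := (Cfsg.pCore s R).map R.subtype with hS
  have hSR : S ≤ R := map_subtype_le _
  have hSp : IsPGroup s S := (Solvable.Cores.isPGroup_pCore s).map _
  have hxS : x ∈ normalizer (S : Set X) := by
    haveI : (Cfsg.pCore s R).Characteristic := inferInstance
    exact Coprime.FixedPointFreeOnModule.mem_normalizer_map_of_char _ (le_normalizer hx.mem)
  set K := F ⊔ S with hK
  set Y := K ⊔ zpowers x with hY
  have hxK : zpowers x ≤ normalizer (K : Set X) := zpowers_le.2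
    (Subgroup.mem_normalizer_iff_map_conj_eq.2 (by
      rw [hK, Subgroup.map_sup, Subgroup.mem_normalizer_iff_map_conj_eq.1 (h.norm hx.mem),
        Subgroup.mem_normalizer_iff_map_conj_eq.1 hxS]))
  have hSF : S ≤ normalizer (F : Set X) := hSR.trans h.norm
  have hcardK : Nat.card K ∣ Nat.card F * Nat.card S := by
    have hFn : (F.subgroupOf K).Normal :=
      (normal_subgroupOf_iff_le_normalizer le_sup_left).2 (sup_le le_normalizer hSF)
    have h1 := Solvable.Basic.card_sup_mul (F.subgroupOf K) (S.subgroupOf K)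
    rw [← Subgroup.subgroupOf_sup le_sup_right le_sup_left, sup_comm, subgroupOf_self, card_top,
      Nat.card_congr (subgroupOfEquivOfLe (le_sup_left : F ≤ K)).toEquiv,
      Nat.card_congr (subgroupOfEquivOfLe (le_sup_right : S ≤ K)).toEquiv, mul_comm (Nat.card S)]
      at h1
    exact ⟨_, h1.symm⟩
  have hKY : K ≤ Y := le_sup_left
  have hxY : x ∈ Y := mem_sup_right (mem_zpowers x)
  haveI hKn : (K.subgroupOf Y).Normal :=
    (normal_subgroupOf_iff_le_normalizer hKY).2 (sup_le le_normalizer hxK)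
  have hoddS : Odd (Nat.card S) := h.oddR.of_dvd_nat (card_dvd_of_le hSR)
  have hoddK : Odd (Nat.card K) := (h.oddF.mul hoddS).of_dvd_nat hcardK
  have hoddY : Odd (Nat.card Y) := by
    have h1 := Solvable.Basic.card_sup_mul (K.subgroupOf Y) ((zpowers x).subgroupOf Y)
    rw [← Subgroup.subgroupOf_sup (zpowers_le.2 hxY) hKY, sup_comm, subgroupOf_self, card_top,
      Nat.card_congr (subgroupOfEquivOfLe hKY).toEquiv,
      Nat.card_congr (subgroupOfEquivOfLe (zpowers_le.2 hxY)).toEquiv, Nat.card_zpowers] at h1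
    exact ((h.oddR.of_dvd_nat (Subgroup.orderOf_dvd_natCard _ hx.mem)).mul hoddK).of_dvd_nat
      ⟨_, h1.symm⟩
  haveI : Group.IsSolvable Y := OddOrder.Final.oddSolvable Y hoddY
  have hl2 : l ≠ 2 := fun e => by
    have := h.oddR.of_dvd_nat (Subgroup.orderOf_dvd_natCard _ hx.mem)
    rw [← hl, e] at this
    exact Nat.not_odd_iff_even.2 even_two this
  have hlK : (Nat.card K).Coprime l := by
    refine ((hx.prime.coprime_iff_not_dvd).2 fun hd => ?_).symm
    rcases hx.prime.dvd_mul.1 (hd.trans hcardK) with e | e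
    · exact h.free_coprime x hx e
    · obtain ⟨n, hn⟩ := hSp.exists_card_eq
      rw [hn] at e
      exact hsl ((Nat.prime_dvd_prime_iff_eq hx.prime hs.out).1 (hx.prime.dvd_of_dvd_pow e)).symm
  -- the Fitting subgroup of `K` is `F`
  have hfit : Cfsg.fittingOf (K.subgroupOf Y) ≤ F.subgroupOf Y := by
    rintro _ ⟨n, hn, rfl⟩
    rw [mem_subgroupOf]
    set N := ((Cfsg.fittingSubgroup (K.subgroupOf Y)).map (K.subgroupOf Y).subtype).map Y.subtype
      with hN
    haveI := Solvable.Cores.fittingSubgroup_isNilpotent (G := K.subgroupOf Y)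
    have hNnil : Group.IsNilpotent N := by
      rw [hN, Subgroup.map_map]
      exact Group.nilpotent_of_surjective
        (Subgroup.equivMapOfInjective (Cfsg.fittingSubgroup (K.subgroupOf Y))
          (Y.subtype.comp (K.subgroupOf Y).subtype)
          (Y.subtype_injective.comp (K.subgroupOf Y).subtype_injective)).toMonoidHom
        (MulEquiv.surjective _)
    have hFN : F ≤ N := by
      intro f hf
      have hFK : F ≤ K := le_sup_left
      set f' : K.subgroupOf Y := ⟨⟨f, hKY (hFK hf)⟩, mem_subgroupOf.2 (hFK hf)⟩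
      let F' : Subgroup (K.subgroupOf Y) := (F.subgroupOf Y).subgroupOf (K.subgroupOf Y)
      haveI : F'.Normal := ⟨fun m hm g => mem_subgroupOf.2 (mem_subgroupOf.2
        (BenderTransitive.conj_mem_of_mem_normalizer
          ((sup_le le_normalizer hSF : K ≤ normalizer (F : Set X)) (mem_subgroupOf.1 g.2))
          (mem_subgroupOf.1 (mem_subgroupOf.1 hm))))⟩
      have hF' : Group.IsNilpotent F' := by
        letI : CommGroup F' :=
          { (inferInstance : Group F') with
            mul_comm := fun a b => Subtype.ext (Subtype.ext (Subtype.ext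
              (h.comm _ (mem_subgroupOf.1 (mem_subgroupOf.1 a.2)) _
                (mem_subgroupOf.1 (mem_subgroupOf.1 b.2))))) }
        exact CommGroup.isNilpotent
      exact ⟨_, ⟨f', Solvable.Cores.le_fittingSubgroup hF'
        (show f' ∈ F' from mem_subgroupOf.2 (mem_subgroupOf.2 hf)), rfl⟩, rfl⟩
    have hnN : ((n : Y) : X) ∈ N := ⟨_, ⟨n, hn, rfl⟩, rfl⟩
    obtain ⟨f, hf, σ, hσ, e⟩ : ∃ f ∈ F, ∃ σ ∈ S, f * σ = ((n : Y) : X) := by
      have h1 : ((n : Y) : X) ∈ ((F ⊔ S : Subgroup X) : Set X) := mem_subgroupOf.1 n.2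
      rw [Subgroup.coe_mul_of_right_le_normalizer_left _ _ hSF] at h1
      exact Set.mem_mul.1 h1
    have hσN : σ ∈ N := by
      have := mul_mem (inv_mem (hFN hf)) hnN
      rwa [← e, inv_mul_cancel_left] at this
    obtain ⟨q, hqp, hqs, hqd⟩ := h.other s
    haveI := Fact.mk hqp
    have hσ1 : σ = 1 := by
      refine h.eq_one_of_torsion hqd (hSR hσ) fun g hg => ?_
      by_cases hg1 : g = 1
      · simp [hg1]
      refine (StrongCore.commute_of_isNilpotent hNnil hσN (hFN hg.1) ?_).eq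
      obtain ⟨k, hk⟩ := IsPGroup.iff_orderOf.1 hSp ⟨σ, hσ⟩
      rw [Subgroup.orderOf_mk] at hk
      rw [hk, orderOf_eq_prime hg.2 hg1]
      exact ((Nat.coprime_primes hs.out hqp).2 (Ne.symm hqs)).pow_left k
    rw [hσ1, mul_one] at e
    exact e ▸ hf
  have hF1 : Cfsg.fittingOf (K.subgroupOf Y) ⊓ centralizer ({(⟨x, hxY⟩ : Y)} : Set Y) = ⊥ := by
    refine (Subgroup.eq_bot_iff_forall _).2 fun g hg => Subtype.ext ?_
    have h1 : (g : X) ∈ fixedIn F x := mem_fixedIn.2 ⟨mem_subgroupOf.1 (hfit hg.1),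
      congrArg Subtype.val (mem_centralizer_singleton_iff.1 hg.2).symm⟩
    rw [hx.fix, mem_bot] at h1
    exact h1
  have hcom := Solvable.FittingFPF.commutator_le_fitting (r := l) (K := K.subgroupOf Y)
    (x := (⟨x, hxY⟩ : Y))
    (by rw [Nat.card_congr (subgroupOfEquivOfLe hKY).toEquiv]; exact hoddK) hl2
    (by rw [Nat.card_congr (subgroupOfEquivOfLe hKY).toEquiv]; exact hlK)
    (Subtype.ext (by simpa [hl] using pow_orderOf_eq_one x)) hF1
  have hyK : y ∈ K := mem_sup_right hy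
  have hmemF : ⁅y, x⁆ ∈ F := mem_subgroupOf.1 (hfit (hcom (commutator_mem_commutator
    (show (⟨y, hKY hyK⟩ : Y) ∈ K.subgroupOf Y from mem_subgroupOf.2 hyK)
    (mem_zpowers (⟨x, hxY⟩ : Y)))))
  have hone : ⁅y, x⁆ = 1 := by
    refine h.faithful _ ?_ fun f hf => h.comm _ hmemF f hf
    rw [commutatorElement_def]
    exact mul_mem (mul_mem (mul_mem (hSR hy) hx.mem) (inv_mem (hSR hy))) (inv_mem hx.mem)
  exact (commutatorElement_eq_one_iff_commute.1 hone).symm

end Data

end CfsgLib.LocalEven.BenderSplit.Singular
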